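import Cfsg.Agent.Class.Wall.Dual
import Cfsg.Agent.KSG.Cent
import Cfsg.Agent.Class.U.Count

/-!
# Determinants on centralisers in `GU`, splitting of classes in `SU`

`det (C_GU(A)) = {d / σ d | d ∈ det (C_GL(A))}`.
-/

set_option autoImplicit false

namespace Cfsg.Agent.Class.Wall

open Module Polynomial Matrix

variable {F : Type*} [Field F]

section Star

variable {ι : Type*} [Fintype ι] [DecidableEq ι] {σ : F →+* F}

/-- Conjugate transpose. -/
def cstar (σ : F →+* F) (M : Matrix ι ι F) : Matrix ι ι F := (M.map σ)ᵀ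

theorem isAnti_cstar : IsAnti (cstar σ : Matrix ι ι F → _) where
  add a b := by ext; simp [cstar]
  mul a b := by rw [cstar, Matrix.map_mul, transpose_mul]; rfl
  one := by simp [cstar]

omit [Fintype ι] [DecidableEq ι] in
theorem cstar_cstar (hσ : ∀ a, σ (σ a) = a) (M : Matrix ι ι F) : cstar σ (cstar σ M) = M := by
  ext; simp [cstar, hσ]

theorem det_cstar (M : Matrix ι ι F) : (cstar σ M).det = σ M.det := by
  rw [cstar, det_transpose, ← RingHom.mapMatrix_apply, ← RingHom.map_det]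

theorem cstar_algebraMap (c : F) :
    cstar σ (algebraMap F (Matrix ι ι F) c) = algebraMap F (Matrix ι ι F) (σ c) := by
  ext i j
  by_cases h : i = j
  · simp [cstar, h, algebraMap_matrix_apply]
  · simp [cstar, h, Ne.symm h, algebraMap_matrix_apply]

end Star

variable {n q : ℕ} [U.UF F q]

theorem pres_iff_cstar {M : Matrix (Fin n) (Fin n) F} :
    U.Pres q M ↔ cstar (U.conj F q) M * M = 1 := by
  rw [U.pres_iff]
  have key : (cstar (U.conj F q) M * M).map (U.conj F q) = Mᵀ * M.map (U.conj F q) := by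
    rw [Matrix.map_mul]; congr 1; ext; simp [cstar, U.conj_conj]
  rw [← key]
  refine ⟨fun h => ?_, fun h => by simp [h]⟩
  have := congrArg (fun N : Matrix (Fin n) (Fin n) F => N.map (U.conj F q)) h
  simpa [Matrix.map_map, show U.conj F q ∘ U.conj F q = id from funext U.conj_conj] using this

theorem commute_cstar_of_pres {A M : Matrix (Fin n) (Fin n) F} (hA : U.Pres q A) (h : Commute A M) :
    Commute A (cstar (U.conj F q) M) := by
  have h1 := pres_iff_cstar.1 hA
  have h2 := (isAnti_cstar (σ := U.conj F q)).commute h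
  have h3 : IsUnit (cstar (U.conj F q) A) := IsUnit.of_mul_eq_one _ h1
  apply h3.mul_left_cancel
  rw [← mul_assoc, ← mul_assoc, h2.eq, mul_assoc (cstar _ M), h1, one_mul, mul_one]

theorem exists_omega : ∃ c : F, IsUnit (algebraMap F (Matrix (Fin n) (Fin n) F) c -
    cstar (U.conj F q) (algebraMap F (Matrix (Fin n) (Fin n) F) c)) := by
  obtain ⟨c, hc⟩ := U.exists_conj_ne F q
  refine ⟨c, ?_⟩
  rw [cstar_algebraMap, ← map_sub]
  exact (IsUnit.mk0 _ (sub_ne_zero.2 hc.symm)).map _

/-- If `d` is the determinant of an invertible matrix commuting with `A ∈ GU`, then `d / σ d` is the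
determinant of an element of `GU` commuting with `A`. -/
theorem exists_GU_commute_det (A : GU n F q) {t : Matrix (Fin n) (Fin n) F} (ht : IsUnit t)
    (hc : Commute (A.1 : Matrix (Fin n) (Fin n) F) t) :
    ∃ u : GU n F q, Commute A u ∧ (U.detGU u : F) = t.det / U.conj F q t.det := by
  have : Finite F := U.UF.finite q
  have τ := isAnti_cstar (ι := Fin n) (σ := U.conj F q)
  have hi := cstar_cstar (ι := Fin n) (σ := U.conj F q) U.conj_conj
  obtain ⟨c, hω⟩ := exists_omega (F := F) (n := n) (q := q)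
  have hc' := commute_cstar_of_pres A.2 hc
  obtain ⟨y, hy, y1, y2⟩ := τ.exists_norm hi hω (Algebra.commutes _ _) (a := cstar _ t * t)
    (Algebra.commutes _ _).symm ((τ.isUnit ht).mul ht) (by rw [τ.mul, hi])
  have hS : ∀ s ∈ ({cstar (U.conj F q) t * t, algebraMap F _ c,
      cstar (U.conj F q) (algebraMap F _ c)} : Set (Matrix (Fin n) (Fin n) F)), ∀ f,
      Commute (cstar (U.conj F q) t * t) f → Commute s f := by
    rintro s (rfl | rfl | rfl) f hf
    exacts [hf, Algebra.commutes _ _, by rw [cstar_algebraMap]; exact Algebra.commutes _ _]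
  have y3 : Commute (A.1 : Matrix (Fin n) (Fin n) F) y :=
    hy _ fun s hs => hS s hs _ (hc'.mul_right hc).symm
  have y4 : Commute (cstar (U.conj F q) t * t) y := hy _ fun s hs => hS s hs _ (Commute.refl _)
  obtain ⟨y, rfl⟩ := y1
  have z1 : cstar (U.conj F q) (↑y⁻¹ : Matrix (Fin n) (Fin n) F) * cstar (U.conj F q) ↑y = 1 := by
    rw [← τ.mul, Units.mul_inv, τ.one]
  have z2 : cstar (U.conj F q) (↑y : Matrix (Fin n) (Fin n) F) * cstar (U.conj F q) ↑y⁻¹ = 1 :=
    mul_eq_one_comm.1 z1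
  have y5 : Commute (y : Matrix (Fin n) (Fin n) F) (cstar (U.conj F q) y) := by
    rw [← y2] at y4
    exact (Units.mul_left_inj y).1 (by rw [y4.eq, mul_assoc]) |>.symm
  have p1 : U.Pres q (t * (↑y⁻¹ : Matrix (Fin n) (Fin n) F)) := by
    rw [pres_iff_cstar, τ.mul, mul_assoc, ← mul_assoc (cstar _ t), ← y2, mul_assoc, Units.mul_inv,
      mul_one, z1]
  have p2 : U.Pres q ((y : Matrix (Fin n) (Fin n) F) * cstar (U.conj F q) (↑y⁻¹ : Matrix (Fin n) (Fin n) F)) := by
    rw [pres_iff_cstar, τ.mul, hi, mul_assoc, ← mul_assoc (cstar _ _), ← y5.eq, mul_assoc, z2,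
      mul_one, Units.inv_mul]
  have c1 : Commute A (U.mkGU _ p1) := Subtype.ext (Units.ext (hc.mul_right y3.units_inv_right))
  have c2 : Commute A (U.mkGU _ p2) := Subtype.ext (Units.ext
    (y3.mul_right (commute_cstar_of_pres A.2 y3.units_inv_right)))
  refine ⟨U.mkGU _ p1 * U.mkGU _ p1 * U.mkGU _ p2, (c1.mul_right c1).mul_right c2, ?_⟩
  have d1 := p1.det_mul_conj
  have d0 : (y : Matrix (Fin n) (Fin n) F).det ≠ 0 := ((isUnit_iff_isUnit_det _).1 y.isUnit).ne_zero
  have d2 : t.det ≠ 0 := ((isUnit_iff_isUnit_det _).1 ht).ne_zero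
  have d3 : (↑y⁻¹ : Matrix (Fin n) (Fin n) F).det = (y : Matrix (Fin n) (Fin n) F).det⁻¹ := by
    rw [coe_units_inv, det_nonsing_inv, Ring.inverse_eq_inv']
  simp only [map_mul, Units.val_mul, U.detGU_mkGU, det_mul, det_cstar, d3, map_inv₀] at d1 ⊢
  have d4 := (U.conj_ne_zero (q := q)).2 d0
  have d5 := (U.conj_ne_zero (q := q)).2 d2
  field_simp at d1 ⊢
  linear_combination d1

/-- Conversely (Hilbert 90). -/
theorem exists_GL_commute_det {A u : GU n F q} (h : Commute A u) :
    ∃ t : Matrix (Fin n) (Fin n) F, IsUnit t ∧ Commute (A.1 : Matrix (Fin n) (Fin n) F) t ∧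
      (U.detGU u : F) = t.det / U.conj F q t.det := by
  have : Finite F := U.UF.finite q
  have τ := isAnti_cstar (ι := Fin n) (σ := U.conj F q)
  have hi := cstar_cstar (ι := Fin n) (σ := U.conj F q) U.conj_conj
  obtain ⟨c, hω⟩ := exists_omega (F := F) (n := n) (q := q)
  have hu : (u.1 : Matrix (Fin n) (Fin n) F) * cstar (U.conj F q) u.1 = 1 :=
    mul_eq_one_comm.1 (pres_iff_cstar.1 u.2)
  have hA : Commute (A.1 : Matrix (Fin n) (Fin n) F) (u.1 : Matrix (Fin n) (Fin n) F) :=
    congrArg (fun g : GU n F q => (g.1 : Matrix (Fin n) (Fin n) F)) h.eq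
  let S : Set (Matrix (Fin n) (Fin n) F) := {u.1.1, cstar (U.conj F q) u.1.1, algebraMap F _ c,
    cstar (U.conj F q) (algebraMap F _ c)}
  have hS : ∀ s ∈ S, ∀ f, Commute u.1.1 f → Commute (cstar (U.conj F q) u.1.1) f → Commute s f := by
    rintro s (rfl | rfl | rfl | rfl) f h1 h2
    exacts [h1, h2, Algebra.commutes _ _, by rw [cstar_algebraMap]; exact Algebra.commutes _ _]
  have hu' : Commute u.1.1 (cstar (U.conj F q) u.1.1) := commute_cstar_of_pres u.2 (Commute.refl _)
  obtain ⟨v, hv, v1, v2⟩ := (τ.both (Function.Involutive.bijective hi) (S := S)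
    (by rintro s (rfl | rfl | rfl | rfl) <;> simp [S, hi])
    (fun s hs t ht => hS s hs t (hS t ht _ (Commute.refl _) hu'.symm).symm
      (hS t ht _ hu' (Commute.refl _)).symm)
    (fun x _ => hi x) (subset_cc (by simp [S])) hω).1 u.1.1 (subset_cc (by simp [S])) hu
  refine ⟨v, v1, hv _ fun s hs => hS s hs _ hA.symm (commute_cstar_of_pres A.2 hA).symm, ?_⟩
  have d := congrArg det v2
  rw [det_mul, det_cstar] at d
  rw [eq_div_iff (U.conj_ne_zero.2 ((isUnit_iff_isUnit_det _).1 v1).ne_zero), U.coe_detGU, d]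

/-- `det : GU → F¹`. -/
noncomputable def detU (n : ℕ) (F : Type*) [Field F] (q : ℕ) [U.UF F q] :
    GU n F q →* (U.detGU : GU n F q →* Fˣ).range := (U.detGU : GU n F q →* Fˣ).rangeRestrict

theorem range_toGU_eq_ker_detU : (U.toGU : SU n F q →* GU n F q).range = (detU n F q).ker := by
  rw [detU, MonoidHom.ker_rangeRestrict, U.range_toGU]

theorem SU_isConj_of_det_surj {A B : SU n F q}
    (hA : ∀ d : F, d ≠ 0 → ∃ c : GL (Fin n) F, (c : Matrix (Fin n) (Fin n) F) * A.1.1 = A.1.1 * c ∧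
      (c : Matrix (Fin n) (Fin n) F).det = d)
    (h : IsConj A.1.1 B.1.1) : IsConj A B := by
  obtain ⟨g, hg⟩ := isConj_iff.1 ((GU_isConj_iff (A := U.toGU A) (B := U.toGU B)).2 h)
  obtain ⟨s, s0, hs⟩ := U.exists_conj_div_eq (U.detGU_mul_conj g)
  obtain ⟨c, c1, c2⟩ := hA s s0
  obtain ⟨u, u1, u2⟩ := exists_GU_commute_det (U.toGU A) c.isUnit c1.symm
  obtain ⟨k, hk⟩ : g * u ∈ (U.toGU : SU n F q →* GU n F q).range := by
    rw [U.range_toGU, MonoidHom.mem_ker, map_mul]
    apply Units.ext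
    rw [Units.val_mul, u2, c2, hs, Units.val_one]
    field_simp
  refine isConj_iff.2 ⟨k, U.toGU_injective ?_⟩
  rw [map_mul, map_mul, map_inv, hk, ← hg, mul_assoc g, ← u1.eq]
  group

end Cfsg.Agent.Class.Wall
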